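import Groth.Agent.SmDepth21.FiniteSect
import Groth.Agent.PunctPure21.Extend
import Groth.Agent.Lib.DepthExt20.Basic

/-!
# Sections of a finite étale cover of an open with complement of depth two
-/

set_option autoImplicit false
set_option linter.style.haveILetI false
set_option maxHeartbeats 1000000

universe u

open CategoryTheory CategoryTheory.Limits AlgebraicGeometry TopologicalSpace RingTheory.Sequence

namespace GrothLib.SmDepth21

variable {X : Scheme.{u}} [IsLocallyNoetherian X] {U : X.Opens}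

/-- On an affine open the sections of the cover form a finite algebra with a regular pair along the
complement. -/
theorem sections_data (hU : GrothLib.Depth.DepthTwoOutside U) (V : FEt.Cat (U : Scheme.{u}))
    (W : X.Opens) (hW : IsAffineOpen W) :
    ((V.hom ≫ U.ι).app W).hom.Finite ∧
    ∃ x y : Γ(X, W),
      (∀ z : W, (z : X) ∉ U → x ∈ (hW.primeIdealOf z).asIdeal ∧ y ∈ (hW.primeIdealOf z).asIdeal) ∧
      (∀ r, (V.hom ≫ U.ι).app W x * r = 0 → r = 0) ∧
      ∀ r s, (V.hom ≫ U.ι).app W y * r = (V.hom ≫ U.ι).app W x * s →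
        ∃ t, r = (V.hom ≫ U.ι).app W x * t := by
  classical
  haveI : IsFinite V.hom := V.prop.1
  haveI : Etale V.hom := V.prop.2
  let v : V.left ⟶ X := V.hom ≫ U.ι
  let B := Γ(X, W)
  haveI : IsNoetherianRing B := IsLocallyNoetherian.component_noetherian ⟨W, hW⟩
  let Z : Set (PrimeSpectrum B) := ((hW.fromSpec ⁻¹ᵁ U).1 : Set (PrimeSpectrum B))ᶜ
  let J : Ideal B := PrimeSpectrum.vanishingIdeal Z
  have hZ : PrimeSpectrum.zeroLocus (J : Set B) = Z := by
    rw [PrimeSpectrum.zeroLocus_vanishingIdeal_eq_closure]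
    exact (hW.fromSpec ⁻¹ᵁ U).isOpen.isClosed_compl.closure_eq
  obtain ⟨T, hT⟩ := IsNoetherian.noetherian J
  let a : T → B := fun i => i.1
  have hspan : Ideal.span (Set.range a) = J := by
    rw [← hT]
    congr 1
    exact Subtype.range_coe
  have hmemZ : ∀ z : W, (z : X) ∉ U → hW.primeIdealOf z ∈ Z := fun z hz hmem => hz (by
    rw [← hW.fromSpec_primeIdealOf z]
    exact hmem)
  have hJz : ∀ z : W, (z : X) ∉ U → J ≤ (hW.primeIdealOf z).asIdeal := fun z hz =>
    (PrimeSpectrum.mem_zeroLocus _ _).1 (hZ.ge (hmemZ z hz))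
  have hdepth : ∀ p : PrimeSpectrum B, J ≤ p.asIdeal →
      ((2 : ℕ) : ℕ∞) ≤ LocCoh.depth (Localization.AtPrime p.asIdeal) (LocalizedModule p.asIdeal.primeCompl B) := by
    intro p hp
    have hpZ : p ∈ Z := hZ.le ((PrimeSpectrum.mem_zeroLocus _ _).2 hp)
    let z : X := hW.fromSpec p
    have hzW : z ∈ W := hW.range_fromSpec.subset ⟨p, rfl⟩
    have hp' : hW.primeIdealOf ⟨z, hzW⟩ = p := hW.fromSpec.isOpenEmbedding.injective (hW.fromSpec_primeIdealOf _)
    letI := X.presheaf.algebra_section_stalk (⟨z, hzW⟩ : W)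
    haveI : IsLocalization.AtPrime (X.presheaf.stalk z) p.asIdeal := by
      have h := hW.isLocalization_stalk ⟨z, hzW⟩
      simp only [hp'] at h
      exact h
    exact (hU z hpZ).trans_eq (GrothLib.HartogsQC.depth_eq_of_ringEquiv
      (IsLocalization.algEquiv p.asIdeal.primeCompl (X.presheaf.stalk z) (Localization.AtPrime p.asIdeal)).toRingEquiv)
  obtain ⟨x, y, hxJ, hyJ, hxy⟩ : ∃ x y : B, x ∈ J ∧ y ∈ J ∧ IsWeaklyRegular B [x, y] := by
    by_cases hJ : J = ⊤
    · refine ⟨1, 1, by simp [hJ], by simp [hJ], ?_⟩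
      rw [isWeaklyRegular_cons_iff, isWeaklyRegular_cons_iff]
      refine ⟨fun b c h => by simpa using h, fun b c h => by simpa using h, IsWeaklyRegular.nil _ _⟩
    · have hne : J • (⊤ : Submodule B B) ≠ ⊤ := by
        rwa [smul_eq_mul, Ideal.mul_top]
      obtain ⟨rs, h1, h2, h3⟩ := (Depth.le_idealDepth_iff_exists _ hne 2).1
        (DepthExt20.le_idealDepth_of_forall_depth J hdepth)
      obtain ⟨x, y, rfl⟩ := List.length_eq_two.1 h1
      exact ⟨x, y, h2 x (by simp), h2 y (by simp), h3⟩
  -- the cover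
  let P : V.left.Opens := v ⁻¹ᵁ W
  let R := Γ(V.left, P)
  letI : Algebra B R := (v.app W).hom.toAlgebra
  have hDU : ∀ i, X.basicOpen (a i) ≤ U := by
    intro i z hz
    by_contra hzU
    have hzW := X.basicOpen_le (a i) hz
    let zz : W := ⟨z, hzW⟩
    have h2 : hW.primeIdealOf zz ∈ (hW.fromSpec ⁻¹ᵁ X.basicOpen (a i)).1 := by
      show hW.fromSpec (hW.primeIdealOf zz) ∈ X.basicOpen (a i)
      rw [hW.fromSpec_primeIdealOf]
      exact hz
    rw [hW.fromSpec_preimage_basicOpen] at h2
    exact h2 (hJz zz hzU (hspan.le (Ideal.subset_span ⟨i, rfl⟩)))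
  have hcov : ∀ w : V.left, w ∈ P → ∃ i, v w ∈ X.basicOpen (a i) := by
    intro w hw
    let zz : W := ⟨v w, hw⟩
    have hnot : ¬ J ≤ (hW.primeIdealOf zz).asIdeal := fun h => by
      have h' : hW.primeIdealOf zz ∈ Z := hZ.le ((PrimeSpectrum.mem_zeroLocus _ _).2 h)
      refine h' ?_
      show hW.fromSpec (hW.primeIdealOf zz) ∈ U
      rw [hW.fromSpec_primeIdealOf]
      exact (V.hom w).2
    rw [← hspan, Ideal.span_le] at hnot
    obtain ⟨_, ⟨i, rfl⟩, hi⟩ := Set.not_subset.1 hnot
    refine ⟨i, ?_⟩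
    have h2 : hW.primeIdealOf zz ∈ (hW.fromSpec ⁻¹ᵁ X.basicOpen (a i)).1 := by
      rw [hW.fromSpec_preimage_basicOpen]
      exact hi
    have h3 : hW.fromSpec (hW.primeIdealOf zz) ∈ X.basicOpen (a i) := h2
    rwa [hW.fromSpec_primeIdealOf] at h3
  haveI : LocallyOfFiniteType v := inferInstance
  haveI : IsLocallyNoetherian V.left := LocallyOfFiniteType.isLocallyNoetherian v
  haveI : QuasiCompact U.ι := inferInstance
  have hPc : IsCompact (P : Set V.left) := v.isCompact_preimage hW.isCompact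
  have hPq : IsQuasiSeparated (P : Set V.left) := IsQuasiSeparated.of_quasiSeparatedSpace _
  let Bi : T → Type u := fun i => Γ(X, X.basicOpen (a i))
  let Ri : T → Type u := fun i => Γ(V.left, V.left.basicOpen (v.app W (a i)))
  have hpre : ∀ i, v ⁻¹ᵁ X.basicOpen (a i) = V.left.basicOpen (v.app W (a i)) :=
    fun i => v.preimage_basicOpen (a i)
  letI algBi : ∀ i, Algebra B (Bi i) := fun i =>
    (X.presheaf.map (homOfLE (X.basicOpen_le (a i))).op).hom.toAlgebra
  haveI locBi : ∀ i, IsLocalization.Away (a i) (Bi i) := fun i => hW.isLocalization_basicOpen (a i)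
  letI algRi : ∀ i, Algebra R (Ri i) := fun i =>
    (V.left.presheaf.map (homOfLE (V.left.basicOpen_le (v.app W (a i)))).op).hom.toAlgebra
  haveI locRi : ∀ i, IsLocalization.Away (algebraMap B R (a i)) (Ri i) := fun i =>
    isLocalization_basicOpen_of_qcqs hPc hPq _
  letI algBiRi : ∀ i, Algebra (Bi i) (Ri i) := fun i =>
    (v.appLE (X.basicOpen (a i)) (V.left.basicOpen (v.app W (a i))) (hpre i).ge).hom.toAlgebra
  letI algBRi : ∀ i, Algebra B (Ri i) := fun i => ((algebraMap R (Ri i)).comp (algebraMap B R)).toAlgebra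
  haveI : ∀ i, IsScalarTower B R (Ri i) := fun i => IsScalarTower.of_algebraMap_eq fun _ => rfl
  haveI : ∀ i, IsScalarTower B (Bi i) (Ri i) := fun i => IsScalarTower.of_algebraMap_eq fun b => by
    show ((v.app W) ≫ V.left.presheaf.map _) b = (X.presheaf.map _ ≫ v.appLE _ _ _) b
    rw [Scheme.Hom.map_appLE, Scheme.Hom.appLE]
  have hfin : ∀ i, (algebraMap (Bi i) (Ri i)).Finite ∧ (algebraMap (Bi i) (Ri i)).Flat := by
    intro i
    let D := X.basicOpen (a i)
    have hD : IsAffineOpen D := hW.basicOpen (a i)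
    have hD' : IsAffineOpen (U.ι ⁻¹ᵁ D) := hD.preimage_of_isOpenImmersion _ (by
      rw [Scheme.Opens.opensRange_ι]; exact hDU i)
    haveI : IsIso (U.ι.app D) := Scheme.Hom.isIso_app U.ι D (by rw [Scheme.Opens.opensRange_ι]; exact hDU i)
    let m := V.left.presheaf.map (homOfLE (hpre i).ge).op
    haveI : IsIso (homOfLE (hpre i).ge) := ⟨homOfLE (hpre i).le, Subsingleton.elim _ _, Subsingleton.elim _ _⟩
    have h : (v.appLE D _ (hpre i).ge) = U.ι.app D ≫ V.hom.app (U.ι ⁻¹ᵁ D) ≫ m := rfl
    show (v.appLE D _ (hpre i).ge).hom.Finite ∧ (v.appLE D _ (hpre i).ge).hom.Flat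
    rw [h]
    constructor
    · exact RingHom.finite_respectsIso.2 _ (asIso (U.ι.app D)).commRingCatIsoToRingEquiv
        (RingHom.finite_respectsIso.1 _ (asIso m).commRingCatIsoToRingEquiv (V.hom.finite_app _ hD'))
    · have hflat : (V.hom.app (U.ι ⁻¹ᵁ D)).hom.Flat := by
        rw [Scheme.Hom.app_eq_appLE]
        exact HasRingHomProperty.appLE @Flat V.hom inferInstance ⟨_, hD'⟩ ⟨_, hD'.preimage V.hom⟩ le_rfl
      exact RingHom.Flat.respectsIso.2 _ (asIso (U.ι.app D)).commRingCatIsoToRingEquiv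
        (RingHom.Flat.respectsIso.1 _ (asIso m).commRingCatIsoToRingEquiv hflat)
  haveI : ∀ i, IsNoetherianRing (Bi i) := fun i =>
    IsLocalization.isNoetherianRing (Submonoid.powers (a i)) (Bi i) inferInstance
  haveI : ∀ i, Module.Finite (Bi i) (Ri i) := fun i => (hfin i).1
  haveI : ∀ i, Module.Flat (Bi i) (Ri i) := fun i => RingHom.flat_algebraMap_iff.1 (hfin i).2
  haveI : ∀ i, Module.Projective (Bi i) (Ri i) := fun i => by
    haveI := Module.finitePresentation_of_finite (Bi i) (Ri i)
    exact Module.Flat.projective_of_finitePresentation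
  let l : ∀ i, R →ₗ[B] Ri i := fun i => (IsScalarTower.toAlgHom B R (Ri i)).toLinearMap
  haveI : ∀ i, IsLocalizedModule (Submonoid.powers (a i)) (l i) := fun i => by
    refine isLocalizedModule_iff_isLocalization.2 ?_
    rw [Algebra.algebraMapSubmonoid_powers]
    exact locRi i
  have hcovP : P ≤ iSup fun i => V.left.basicOpen (v.app W (a i)) := fun w hw => by
    obtain ⟨i, hi⟩ := hcov w hw
    exact Opens.mem_iSup.2 ⟨i, (hpre i).le hi⟩
  have hinj : ∀ r : R, (∀ i, l i r = 0) → r = 0 := fun r hr =>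
    V.left.sheaf.eq_of_locally_eq' (fun i => V.left.basicOpen (v.app W (a i))) P
      (fun i => homOfLE (V.left.basicOpen_le _)) hcovP r 0 fun i => by
        refine (hr i).trans (map_zero (algebraMap R (Ri i))).symm
  obtain ⟨hfinR, hxR⟩ := finite_of_projective_cover a Bi Ri l hinj hxy
    (Ideal.le_radical (hspan.ge hxJ)) (Ideal.le_radical (hspan.ge hyJ))
  refine ⟨hfinR, x, y, fun z hz => ⟨hJz z hz hxJ, hJz z hz hyJ⟩,
    fun r hr => hxR r (by rw [Algebra.smul_def]; exact hr), fun r s hrs => ?_⟩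
  have hdiv : ∀ i, ∃ t : Ri i, algebraMap R (Ri i) r = algebraMap B (Ri i) x * t := by
    intro i
    obtain ⟨n, g, hg⟩ := Module.Finite.exists_fin' (Bi i) (Ri i)
    obtain ⟨f, hf⟩ := Module.projective_lifting_property g LinearMap.id hg
    have hreg : IsWeaklyRegular (Bi i) [algebraMap B (Bi i) x, algebraMap B (Bi i) y] :=
      IsWeaklyRegular.of_isLocalizedModule (Bi i) (Submonoid.powers (a i)) (Algebra.linearMap B (Bi i)) hxy
    have h2 := ((isWeaklyRegular_cons_iff _ _ _).1 ((isWeaklyRegular_cons_iff _ _ _).1 hreg).2).1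
    have he : algebraMap B (Bi i) y • algebraMap R (Ri i) r =
        algebraMap B (Bi i) x • algebraMap R (Ri i) s := by
      rw [algebraMap_smul, algebraMap_smul, Algebra.smul_def, Algebra.smul_def,
        IsScalarTower.algebraMap_apply B R (Ri i), IsScalarTower.algebraMap_apply B R (Ri i), ← map_mul, ← map_mul]
      exact congrArg _ hrs
    have he' := congrArg f he
    rw [map_smul, map_smul] at he'
    have hk : ∀ k, ∃ h : Bi i, f (algebraMap R (Ri i) r) k = algebraMap B (Bi i) x * h := fun k => by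
      have h0 : algebraMap B (Bi i) y • (Submodule.Quotient.mk (f (algebraMap R (Ri i) r) k) :
          QuotSMulTop (algebraMap B (Bi i) x) (Bi i)) = algebraMap B (Bi i) y • 0 := by
        rw [smul_zero, ← Submodule.Quotient.mk_smul, Submodule.Quotient.mk_eq_zero,
          Submodule.mem_smul_pointwise_iff_exists]
        exact ⟨_, trivial, (congrFun he' k).symm⟩
      obtain ⟨h, -, hh⟩ := (Submodule.mem_smul_pointwise_iff_exists _ _ _).1
        ((Submodule.Quotient.mk_eq_zero _).1 (h2 h0))
      exact ⟨h, hh.symm⟩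
    choose h hh using hk
    refine ⟨g h, ?_⟩
    have h3 : f (algebraMap R (Ri i) r) = algebraMap B (Bi i) x • h := funext hh
    have h4 := congrArg g h3
    rw [← LinearMap.comp_apply, hf, map_smul, algebraMap_smul, Algebra.smul_def] at h4
    exact h4
  choose t ht using hdiv
  let Q : T → V.left.Opens := fun i => V.left.basicOpen (v.app W (a i))
  have hxQ : ∀ (f : R) (O : V.left.Opens) (hO : O ≤ P), O = V.left.basicOpen f → ∀ e e' : Γ(V.left, O),
      V.left.presheaf.map (homOfLE hO).op (v.app W x) * e = V.left.presheaf.map (homOfLE hO).op (v.app W x) * e' →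
      e = e' := by
    rintro f O hO rfl e e' he
    letI : Algebra R Γ(V.left, V.left.basicOpen f) :=
      (V.left.presheaf.map (homOfLE (V.left.basicOpen_le f)).op).hom.toAlgebra
    haveI : IsLocalization.Away f Γ(V.left, V.left.basicOpen f) := isLocalization_basicOpen_of_qcqs hPc hPq f
    have h0 : IsSMulRegular R (v.app W x : R) := fun p q h => by
      refine sub_eq_zero.1 (hxR (p - q) ?_)
      rw [Algebra.smul_def]
      show v.app W x * (p - q) = 0
      rw [mul_sub]
      exact sub_eq_zero.2 h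
    exact (IsSMulRegular.of_isLocalizedModule Γ(V.left, V.left.basicOpen f) (Submonoid.powers f)
      (Algebra.linearMap R Γ(V.left, V.left.basicOpen f)) h0) he
  obtain ⟨T', hT', -⟩ := V.left.sheaf.existsUnique_gluing' Q P (fun i => homOfLE (V.left.basicOpen_le _)) hcovP t
    (fun i k => by
      refine hxQ (v.app W (a i) * v.app W (a k)) (Q i ⊓ Q k) (inf_le_left.trans (V.left.basicOpen_le _))
        (V.left.basicOpen_mul _ _).symm _ _ ?_
      have hi := congrArg (V.left.presheaf.map (homOfLE (inf_le_left : Q i ⊓ Q k ≤ Q i)).op) (ht i)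
      have hk := congrArg (V.left.presheaf.map (homOfLE (inf_le_right : Q i ⊓ Q k ≤ Q k)).op) (ht k)
      rw [map_mul] at hi hk
      have hrr : ∀ {O O' : V.left.Opens} (h : O' ≤ O) (h' : O ≤ P) (e : R),
          V.left.presheaf.map (homOfLE h).op (V.left.presheaf.map (homOfLE h').op e) =
            V.left.presheaf.map (homOfLE (h.trans h')).op e := fun {O O'} h h' e => by
        show (V.left.presheaf.map _ ≫ V.left.presheaf.map _) e = _
        rw [← Functor.map_comp]
        rfl
      change V.left.presheaf.map _ (V.left.presheaf.map _ r) =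
        V.left.presheaf.map _ (V.left.presheaf.map _ (v.app W x)) * _ at hi hk
      rw [hrr, hrr] at hi hk
      exact hi.symm.trans hk)
  let T'' : R := T'
  refine ⟨T'', V.left.sheaf.eq_of_locally_eq' Q P (fun i => homOfLE (V.left.basicOpen_le _)) hcovP _ _ fun i => ?_⟩
  show algebraMap R (Ri i) r = algebraMap R (Ri i) ((v.app W x : R) * T'')
  rw [map_mul, ht i]
  exact congrArg₂ (· * ·) rfl (hT' i).symm

end GrothLib.SmDepth21
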