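import Groth.Prelude
import Groth.Agent.PunctPure21.Basic
import Groth.Agent.Lib.FEt21.Basic
import Groth.Agent.Lib.FEt21.Colimits
import Mathlib.RingTheory.Etale.StandardEtale
import Mathlib.RingTheory.Etale.Field

/-!
# Discrete valuation rings and fields are not pure at the closed point
-/

set_option autoImplicit false
set_option linter.style.haveILetI false

universe u

open CategoryTheory CategoryTheory.Limits AlgebraicGeometry IsLocalRing Polynomial TensorProduct

namespace GrothLib.SmDepth21

/-- In a Noetherian local ring with maximal ideal `(π)`, `π` regular, `π + 4` is a unit times a power of `π`. -/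
theorem isUnit_add_four {O : Type u} [CommRing O] [IsLocalRing O] [IsNoetherianRing O] {π : O}
    (hmax : maximalIdeal O = Ideal.span {π}) (hπ : IsRegular π) (K : Type u) [CommRing K] [Algebra O K]
    [IsLocalization.Away π K] : IsUnit (algebraMap O K (π * π + 4 * π)) := by
  have hπK : IsUnit (algebraMap O K π) := IsLocalization.Away.algebraMap_isUnit π
  have hne : π + 4 ≠ 0 := by
    intro h0
    have hπm : π ∈ maximalIdeal O := hmax.ge (Ideal.mem_span_singleton_self π)
    by_cases h2 : IsUnit (2 : O)
    · refine (mem_maximalIdeal π).1 hπm ?_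
      rw [show π = -(2 * 2) by linear_combination h0]
      exact (h2.mul h2).neg
    · obtain ⟨c, hc⟩ := Ideal.mem_span_singleton'.1 (hmax.le ((mem_maximalIdeal (2 : O)).2 h2))
      have h1 : π * (1 + π * (c * c)) = π * 0 := by linear_combination h0 + (c * π + 2) * hc
      refine (mem_maximalIdeal π).1 hπm (IsUnit.of_mul_eq_one (-(c * c)) ?_)
      linear_combination -(hπ.left h1)
  have key : ∀ x : O, x ≠ 0 → IsUnit (algebraMap O K x) := by
    intro x hx
    obtain ⟨n, hn, hn'⟩ : ∃ n, x ∈ Ideal.span {π ^ n} ∧ x ∉ Ideal.span {π ^ (n + 1)} := by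
      by_contra h
      push Not at h
      have hall : ∀ n, x ∈ (Ideal.span {π}) ^ n := by
        intro n
        rw [Ideal.span_singleton_pow]
        induction n with
        | zero => simp
        | succ n ih => exact h n ih
      refine hx (Ideal.mem_bot.1 ?_)
      rw [← Ideal.iInf_pow_eq_bot_of_isLocalRing (Ideal.span {π}) (hmax ▸ (maximalIdeal.isMaximal O).ne_top)]
      exact Ideal.mem_iInf.2 hall
    obtain ⟨u, rfl⟩ := Ideal.mem_span_singleton'.1 hn
    have hu : IsUnit u := by
      by_contra hu
      obtain ⟨v, rfl⟩ := Ideal.mem_span_singleton'.1 (hmax.le ((mem_maximalIdeal u).2 hu))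
      exact hn' (Ideal.mem_span_singleton'.2 ⟨v, by ring⟩)
    rw [map_mul, map_pow]
    exact (hu.map _).mul (hπK.pow n)
  rw [show π * π + 4 * π = π * (π + 4) by ring, map_mul]
  exact hπK.mul (key _ hne)

/-- No finite étale algebra acquires a root of `X² - πX - π` after inverting `π`. -/
theorem no_root_of_etale {O : Type u} [CommRing O] [IsLocalRing O] {π : O}
    (hmax : maximalIdeal O = Ideal.span {π}) (hπ : IsRegular π) (C : Type u) [CommRing C] [Algebra O C]
    [Algebra.Etale O C] [Module.Finite O C] (CK : Type u) [CommRing CK] [Algebra C CK] [Algebra O CK]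
    [IsScalarTower O C CK] [IsLocalization.Away (algebraMap O C π) CK] [Nontrivial CK] (y : CK)
    (hy : y * y = algebraMap O CK π * y + algebraMap O CK π) : False := by
  let t := algebraMap O C π
  haveI : Nontrivial C := (algebraMap C CK).domain_nontrivial
  have ht : IsRegular t := by
    refine isRegular_iff_eq_zero_of_mul.2 ⟨fun c hc => ?_, fun c hc => ?_⟩
    all_goals
      exact (IsSMulRegular.of_flat (S := C) hπ.left.isSMulRegular).right_eq_zero_of_smul
        (by rw [Algebra.smul_def]; simpa [t, mul_comm] using hc)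
  have hred : ∀ c : C, t ∣ c * c → t ∣ c := by
    letI := Ideal.Quotient.field (maximalIdeal O)
    let J := (maximalIdeal O).map (algebraMap O C)
    haveI : IsReduced (C ⧸ J) := by
      haveI : IsReduced ((O ⧸ maximalIdeal O) ⊗[O] C) :=
        Algebra.FormallyUnramified.isReduced_of_field (O ⧸ maximalIdeal O) _
      let e : C ⧸ J ≃+* (O ⧸ maximalIdeal O) ⊗[O] C :=
        ((Algebra.TensorProduct.quotIdealMapEquivTensorQuot C (maximalIdeal O)).toRingEquiv).trans
          (Algebra.TensorProduct.comm O C (O ⧸ maximalIdeal O)).toRingEquiv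
      exact isReduced_of_injective e e.injective
    have hJ : J = Ideal.span {t} := by
      show (maximalIdeal O).map _ = _
      rw [hmax, Ideal.map_span, Set.image_singleton]
    intro c hc
    rw [← Ideal.mem_span_singleton, ← hJ] at hc ⊢
    refine Ideal.Quotient.eq_zero_iff_mem.1 (IsNilpotent.eq_zero ⟨2, ?_⟩)
    rw [pow_two, ← map_mul]
    exact Ideal.Quotient.eq_zero_iff_mem.2 hc
  have hinj : Function.Injective (algebraMap C CK) :=
    IsLocalization.injective CK (M := Submonoid.powers t) (Submonoid.powers_le.2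
      (mem_nonZeroDivisors_iff_right.2 fun c hc => ht.right (show c * t = 0 * t by rw [zero_mul]; exact hc)))
  have hdesc : ∀ n : ℕ, ∀ c : C, algebraMap C CK c = algebraMap C CK t ^ n * y → ∃ x : C, algebraMap C CK x = y := by
    intro n
    induction n with
    | zero => intro c hc; exact ⟨c, by simpa using hc⟩
    | succ n ih =>
      intro c hc
      have hsq : c * c = t ^ (n + 2) * c + t ^ (2 * n + 3) := hinj (by
        simp only [map_mul, map_add, map_pow, hc]
        rw [IsScalarTower.algebraMap_apply O C CK] at hy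
        linear_combination (algebraMap C CK t ^ (2 * n + 2)) * hy)
      obtain ⟨d, hd⟩ := hred c ⟨t ^ (n + 1) * c + t ^ (2 * n + 2), by rw [hsq]; ring⟩
      refine ih d (((IsLocalization.Away.algebraMap_isUnit (S := CK) t).mul_right_inj).1 ?_)
      rw [← map_mul, ← hd, hc, pow_succ]
      ring
  obtain ⟨n, c, hc⟩ := IsLocalization.Away.surj t y
  obtain ⟨x, rfl⟩ := hdesc n c (by rw [← hc]; ring)
  have hx : x * x = t * x + t := hinj (by
    rw [map_mul, hy, IsScalarTower.algebraMap_apply O C CK, map_add, map_mul])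
  obtain ⟨d, hd⟩ := hred x ⟨x + 1, by rw [hx]; ring⟩
  have h1 : t * (d * d - d) = 1 := ht.left (by
    show t * (t * (d * d - d)) = t * 1
    rw [hd] at hx
    linear_combination hx)
  obtain ⟨M, hM⟩ := Ideal.exists_maximal C
  haveI := hM
  haveI : (M.comap (algebraMap O C)).IsMaximal := Ideal.isMaximal_comap_of_isIntegral_of_isMaximal M
  have hπM : π ∈ M.comap (algebraMap O C) :=
    (IsLocalRing.eq_maximalIdeal this).ge (hmax.ge (Ideal.mem_span_singleton_self π))
  exact hM.ne_top (M.eq_top_iff_one.2 (h1 ▸ M.mul_mem_right _ hπM))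

/-- Purity fails for a Noetherian local ring with principal regular maximal ideal. -/
theorem not_isPurePair_of_principal {O : Type u} [CommRing O] [IsLocalRing O] [IsNoetherianRing O] {π : O}
    (hmax : maximalIdeal O = Ideal.span {π}) (hπ : IsRegular π) :
    ¬ SGA2.IsPurePair (Spec (CommRingCat.of O)) (FEt.puncturedSpec O) := by
  intro h
  let U := FEt.puncturedSpec O
  let K := Localization.Away π
  let j : Spec (CommRingCat.of K) ⟶ Spec (CommRingCat.of O) := Spec.map (CommRingCat.ofHom (algebraMap O K))
  haveI : IsOpenImmersion j := IsOpenImmersion.of_isLocalization π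
  have hrange : Set.range j = Set.range U.ι := by
    rw [Scheme.Opens.range_ι]
    refine (PrimeSpectrum.localization_away_comap_range K π).trans ?_
    ext z
    refine ⟨fun hz hz' => hz ?_, fun hz hz' => hz (PrimeSpectrum.ext ?_)⟩
    · rw [Set.mem_singleton_iff.1 hz']
      exact hmax.ge (Ideal.mem_span_singleton_self π)
    · refine (le_antisymm (IsLocalRing.le_maximalIdeal z.isPrime.ne_top) ?_)
      show maximalIdeal O ≤ z.asIdeal
      rw [hmax, Ideal.span_singleton_le_iff_mem]
      exact hz'
  let θ := IsOpenImmersion.isoOfRangeEq j U.ι hrange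
  have hj : (FEt.restrict j).IsEquivalence :=
    GrothLib.PunctPure21.isEquivalence_comp θ.hom U.ι j (IsOpenImmersion.isoOfRangeEq_hom_fac _ _ _)
      (GrothLib.PunctPure21.isEquivalence_of_isIso θ.hom) (GrothLib.PunctPure21.isEquivalence_ι h)
  let a : K := algebraMap O K π
  let f : K[X] := X ^ 2 - C a * X - C a
  obtain ⟨v, hv⟩ := isUnit_add_four hmax hπ K
  have hv' : (C (v : K) : K[X]) * C (↑v⁻¹ : K) = 1 := by rw [← C_mul, Units.mul_inv, C_1]
  have hva : (v : K) = a * a + 4 * a := by rw [hv]; simp only [a, map_add, map_mul, map_ofNat]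
  let P : StandardEtalePair K :=
    { f := f
      monic_f := by
        show (X ^ 2 - C a * X - C a).Monic
        rw [sub_sub]
        exact monic_X_pow_sub (by compute_degree!)
      g := 1
      cond := ⟨C (↑v⁻¹ : K) * (2 * X - C a), C (↑v⁻¹ : K) * (-4), 0, by
        have hd : derivative f = 2 * X - C a := by
          show derivative (X ^ 2 - C a * X - C a) = _
          simp [derivative_X_pow, two_mul]
          ring
        rw [hd, pow_zero, ← hv', hva, C_add, C_mul, C_mul]
        show _ * _ + (X ^ 2 - C a * X - C a) * _ = _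
        simp only [map_ofNat]
        ring⟩ }
  let L := AdjoinRoot f
  haveI : Module.Finite K L := Polynomial.Monic.finite_adjoinRoot P.monic_f
  haveI : Algebra.Etale K L := Algebra.Etale.of_equiv (P.equivAwayAdjoinRoot.trans
    ((IsLocalization.atUnit (AdjoinRoot f) (Localization.Away (AdjoinRoot.mk f P.g)) (AdjoinRoot.mk f P.g)
      (by rw [show P.g = 1 from rfl, map_one]; exact isUnit_one)).restrictScalars K).symm)
  haveI : Nontrivial L := by
    haveI : Nontrivial K := by
      refine ⟨algebraMap O K 0, algebraMap O K 1, fun h0 => ?_⟩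
      obtain ⟨⟨_, n, rfl⟩, hn⟩ := (IsLocalization.eq_iff_exists (Submonoid.powers π) K).1 h0
      simp at hn
      exact (hπ.pow n).ne_zero (by simpa [eq_comm] using hn)
    exact Ideal.Quotient.nontrivial_iff.2 fun htop => by
      have := Ideal.eq_top_iff_one _ |>.1 htop
      obtain ⟨q, hq⟩ := Ideal.mem_span_singleton'.1 this
      have h2 : f.natDegree = 2 := by
        show (X ^ 2 - C a * X - C a).natDegree = 2
        compute_degree!
      have := P.monic_f.natDegree_mul' (q := q) (by rintro rfl; simp at hq)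
      rw [mul_comm, hq, natDegree_one, h2] at this
      omega
  let g : Spec (CommRingCat.of L) ⟶ Spec (CommRingCat.of K) := Spec.map (CommRingCat.ofHom (algebraMap K L))
  haveI : IsFinite g := by rw [IsFinite.SpecMap_iff]; exact RingHom.finite_algebraMap.2 inferInstance
  haveI : Etale g := (HasRingHomProperty.Spec_iff (P := @Etale)).2 (RingHom.etale_algebraMap.2 inferInstance)
  let V : FEt.Cat (Spec (CommRingCat.of K)) := MorphismProperty.Over.mk ⊤ g (GrothLib.FEt21.prop_of g)
  haveI := hj
  let Y := (FEt.restrict j).objPreimage V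
  let e := (FEt.restrict j).objObjPreimageIso V
  obtain ⟨hfin, het⟩ : IsFinite Y.hom ∧ Etale Y.hom := Y.prop
  haveI := hfin
  haveI := het
  let p : Y.left ⟶ Spec (CommRingCat.of O) := Y.hom
  haveI : IsFinite p := hfin
  haveI : IsAffine Y.left := isAffine_of_isAffineHom p
  obtain ⟨φ, hφ⟩ := Spec.map_surjective (Y.left.isoSpec.inv ≫ Y.hom)
  have h1 : IsFinite (Spec.map φ) := by rw [hφ]; infer_instance
  have h2 : Etale (Spec.map φ) := by rw [hφ]; infer_instance
  rw [IsFinite.SpecMap_iff] at h1
  rw [HasRingHomProperty.Spec_iff (P := @Etale)] at h2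
  let C' : Type u := Γ(Y.left, ⊤)
  letI : Algebra O C' := φ.hom.toAlgebra
  haveI : Module.Finite O C' := h1
  haveI : Algebra.Etale O C' := RingHom.etale_algebraMap.1 h2
  let i₁ : Spec (CommRingCat.of (C' ⊗[O] K)) ⟶ ((FEt.restrict j).obj Y).left :=
    (pullbackSpecIso O C' K).inv ≫ pullback.map _ _ Y.hom j Y.left.isoSpec.inv (𝟙 _) (𝟙 _)
      (by rw [Category.comp_id]; exact hφ) (by rw [Category.comp_id, Category.id_comp])
  let w : Spec (CommRingCat.of (C' ⊗[O] K)) ⟶ Spec (CommRingCat.of L) := i₁ ≫ e.hom.left
  have hw : w ≫ g = Spec.map (CommRingCat.ofHom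
      (Algebra.TensorProduct.includeRight : K →ₐ[O] C' ⊗[O] K).toRingHom) := by
    show (i₁ ≫ e.hom.left) ≫ V.hom = _
    rw [Category.assoc, MorphismProperty.Over.w e.hom]
    show ((pullbackSpecIso O C' K).inv ≫ pullback.map _ _ Y.hom j _ _ _ _ _) ≫ pullback.snd Y.hom j = _
    rw [Category.assoc, pullback.lift_snd, Category.comp_id]
    exact pullbackSpecIso_inv_snd O C' K
  let ψ : CommRingCat.of L ⟶ CommRingCat.of (C' ⊗[O] K) := Spec.preimage w
  haveI : Nontrivial (C' ⊗[O] K) := by
    haveI : IsIso i₁ := @IsIso.comp_isIso _ _ _ _ _ _ _ inferInstance (pullback.map_isIso _ _ _ _ _ _ _ _ _)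
    haveI : IsIso e.hom.left := inferInstanceAs (IsIso ((MorphismProperty.Over.forget FEt.prop ⊤ _ ⋙ Over.forget _).map e.hom))
    haveI : IsIso w := @IsIso.comp_isIso _ _ _ _ _ i₁ e.hom.left inferInstance inferInstance
    have : Nonempty (Spec (CommRingCat.of L)) := inferInstanceAs (Nonempty (PrimeSpectrum L))
    obtain ⟨z⟩ := this
    exact PrimeSpectrum.nontrivial ((asIso w).inv z)
  haveI : IsLocalization.Away (algebraMap O C' π) (C' ⊗[O] K) := by
    have : IsLocalization (Algebra.algebraMapSubmonoid C' (Submonoid.powers π)) (C' ⊗[O] K) :=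
      IsLocalization.tensor K (Submonoid.powers π)
    rwa [Algebra.algebraMapSubmonoid_powers] at this
  refine no_root_of_etale hmax hπ C' (C' ⊗[O] K) (ψ.hom (AdjoinRoot.root f)) ?_
  have hψ : ∀ b : K, ψ.hom (algebraMap K L b) = (Algebra.TensorProduct.includeRight : K →ₐ[O] C' ⊗[O] K) b := by
    intro b
    have : CommRingCat.ofHom (algebraMap K L) ≫ ψ = CommRingCat.ofHom
        (Algebra.TensorProduct.includeRight : K →ₐ[O] C' ⊗[O] K).toRingHom := Spec.map_injective (by
      rw [Spec.map_comp, Spec.map_preimage]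
      exact hw)
    exact congr($this b)
  have hroot : AdjoinRoot.root f * AdjoinRoot.root f =
      algebraMap K L a * AdjoinRoot.root f + algebraMap K L a := by
    have h0 : Polynomial.aeval (AdjoinRoot.root f) f = 0 := by rw [AdjoinRoot.aeval_eq, AdjoinRoot.mk_self]
    conv at h0 => lhs; arg 2; simp only [f]
    simp only [map_sub, map_mul, map_pow, aeval_X, aeval_C] at h0
    linear_combination h0
  rw [← map_mul, hroot, map_add, map_mul, hψ]
  rw [AlgHom.commutes]

/-- A field is not pure at the closed point. -/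
theorem not_isPurePair_of_field {K : Type u} [CommRing K] [IsLocalRing K] (hK : IsField K) :
    ¬ SGA2.IsPurePair (Spec (CommRingCat.of K)) (FEt.puncturedSpec K) := by
  intro h
  let X := Spec (CommRingCat.of K)
  let U := FEt.puncturedSpec K
  haveI : IsEmpty (U : Scheme.{u}) := ⟨fun x => x.2 (by
    letI := hK.toField
    exact Subsingleton.elim (α := PrimeSpectrum K) _ _)⟩
  haveI := GrothLib.PunctPure21.isEquivalence_ι h
  let T : FEt.Cat X := MorphismProperty.Over.mk ⊤ (𝟙 X) (GrothLib.FEt21.prop_of _)
  let Z : FEt.Cat X := GrothLib.FEt21.emptyCover X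
  let pT : ((FEt.restrict U.ι).obj T).left ⟶ (U : Scheme.{u}) := ((FEt.restrict U.ι).obj T).hom
  haveI : IsEmpty ((FEt.restrict U.ι).obj T).left := Function.isEmpty pT
  let m : (FEt.restrict U.ι).obj T ⟶ (FEt.restrict U.ι).obj Z :=
    MorphismProperty.Over.homMk (isInitialOfIsEmpty.to _) (isInitialOfIsEmpty.hom_ext _ _)
  let m' := (FEt.restrict U.ι).preimage m
  haveI : IsEmpty Z.left := inferInstanceAs (IsEmpty (∅ : Scheme.{u}))
  exact isEmptyElim (m'.left (IsLocalRing.closedPoint K) : Z.left)

end GrothLib.SmDepth21
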