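import Groth.Agent.S0263
import Groth.Agent.PunctPure21.Basic
import Groth.Agent.PurityLef21.GrFree
import Groth.Agent.Lib.Hensel.Pair
import Groth.Agent.Lib.EssEtLoc.NormalInter
import Groth.Agent.Lib.FEt21.PunctSections
import Groth.Agent.Lib.FlatExt.Basic
import Groth.Agent.Lib.LocProp.AtPrime
import Groth.Agent.Lib.FEt21.NormalUnramified
import Groth.Agent.Lib.Torsor21.HartogsQC

/-!
# Ramification in the presence of purity
-/

set_option autoImplicit false
set_option linter.style.haveILetI false
set_option maxHeartbeats 1000000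

universe u

open CategoryTheory CategoryTheory.Limits AlgebraicGeometry IsLocalRing TensorProduct

namespace GrothLib.SmDepth21

/-- The idempotent of a maximal ideal of a finite algebra over a henselian local ring. -/
theorem exists_local_idempotent (R C : Type u) [CommRing R] [IsLocalRing R] [IsNoetherianRing R]
    [HenselianRing R (maximalIdeal R)] [CommRing C] [Algebra R C] [Module.Finite R C]
    (Q : Ideal C) [Q.IsMaximal] :
    ∃ e : C, IsIdempotentElem e ∧ e ∉ Q ∧ ∀ Q' : Ideal C, Q'.IsMaximal → Q' ≠ Q → e ∈ Q' := by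
  classical
  let I := (maximalIdeal R).map (algebraMap R C)
  have hI : ∀ M : Ideal C, M.IsMaximal → I ≤ M := fun M hM => Ideal.map_le_iff_le_comap.2 (by
    haveI := hM
    haveI : (M.comap (algebraMap R C)).IsMaximal := Ideal.isMaximal_comap_of_isIntegral_of_isMaximal M
    exact (IsLocalRing.eq_maximalIdeal this).ge)
  letI := Ideal.Quotient.field (maximalIdeal R)
  letI : Algebra (R ⧸ maximalIdeal R) (C ⧸ I) := Ideal.Quotient.algebraQuotientOfLEComap Ideal.le_comap_map
  haveI : IsScalarTower R (R ⧸ maximalIdeal R) (C ⧸ I) := IsScalarTower.of_algebraMap_eq fun _ => rfl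
  haveI : Module.Finite (R ⧸ maximalIdeal R) (C ⧸ I) := Module.Finite.of_restrictScalars_finite R _ _
  haveI : IsArtinianRing (C ⧸ I) := IsArtinianRing.of_finite (R ⧸ maximalIdeal R) (C ⧸ I)
  let π := Ideal.Quotient.mk I
  haveI hfin : Finite (MaximalSpectrum (C ⧸ I)) := inferInstance
  have hker : ∀ M : Ideal C, M.IsMaximal → (M.map π).IsMaximal ∧ (M.map π).comap π = M := by
    intro M hM
    have h2 : (M.map π).comap π = M := by
      rw [Ideal.comap_map_of_surjective π Ideal.Quotient.mk_surjective, ← RingHom.ker_eq_comap_bot, Ideal.mk_ker,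
        sup_eq_left.2 (hI M hM)]
    refine ⟨(Ideal.map_eq_top_or_isMaximal_of_surjective π Ideal.Quotient.mk_surjective hM).resolve_left
      fun h => hM.ne_top ?_, h2⟩
    rw [← h2, h, Ideal.comap_top]
  have hfinC : {M : Ideal C | M.IsMaximal}.Finite := by
    haveI : Finite {M : Ideal C // M.IsMaximal} := Finite.of_injective
      (fun M => (⟨M.1.map π, (hker M.1 M.2).1⟩ : MaximalSpectrum (C ⧸ I))) fun M N h => Subtype.ext (by
        rw [← (hker M.1 M.2).2, ← (hker N.1 N.2).2]
        exact congrArg (Ideal.comap π) (congrArg MaximalSpectrum.asIdeal h))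
    exact Set.finite_coe_iff.1 this
  let S := (hfinC.toFinset.erase Q)
  obtain ⟨c, hcS, hcQ⟩ : ∃ c, c ∈ S.inf id ∧ c ∉ Q := by
    by_contra h
    push Not at h
    obtain ⟨M, hM, hle⟩ := (Ideal.IsPrime.inf_le' (inferInstance : Q.IsPrime)).1 (show S.inf id ≤ Q from h)
    obtain ⟨hne, hmax⟩ := Finset.mem_erase.1 hM
    exact hne ((hfinC.mem_toFinset.1 hmax).eq_of_le (Ideal.IsPrime.ne_top inferInstance) hle)
  obtain ⟨n, y, hy⟩ := IsArtinian.exists_pow_succ_smul_dvd (π c) (1 : C ⧸ I)
  simp only [smul_eq_mul, mul_one] at hy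
  obtain ⟨y, rfl⟩ := Ideal.Quotient.mk_surjective y
  have hy' : ∀ k : ℕ, π c ^ n * (π c * π y) ^ k = π c ^ n := by
    intro k
    induction k with
    | zero => simp
    | succ k ih => rw [pow_succ (π c * π y), ← mul_assoc, ih, ← mul_assoc, ← pow_succ]; exact hy
  have hb : (c * y) ^ n * (c * y) ^ n - (c * y) ^ n ∈ (maximalIdeal R).map (algebraMap R C) := by
    refine Ideal.Quotient.eq.1 ?_
    show π _ = π _
    rw [map_mul, map_pow, map_mul]
    conv_lhs => rw [mul_pow, mul_assoc, mul_comm (π y ^ n), ← mul_assoc, ← mul_pow, hy']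
    rw [mul_pow]
  obtain ⟨e, he, heb⟩ := GrothLib.Hensel.exists_isIdempotentElem_lift hb
  have hmem : ∀ M : Ideal C, M.IsMaximal → (e ∈ M ↔ (c * y) ^ n ∈ M) := fun M hM => by
    constructor
    · intro h; simpa using M.sub_mem h (hI M hM heb)
    · intro h; simpa using M.add_mem (hI M hM heb) h
  refine ⟨e, he, fun h => ?_, fun Q' hQ' hne => ?_⟩
  · have h1 := (hmem Q inferInstance).1 h
    have hc : c ^ n * (c * y) ^ n - c ^ n ∈ Q := hI Q inferInstance (Ideal.Quotient.eq.1 (by
      show π _ = π _
      rw [map_mul, map_pow, map_pow, map_mul]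
      exact hy' n))
    have h2 : c ^ n ∈ Q := by simpa using Q.sub_mem (Q.mul_mem_left (c ^ n) h1) hc
    exact hcQ ((inferInstance : Q.IsPrime).mem_of_pow_mem n h2)
  · refine (hmem Q' hQ').2 ?_
    have hcQ' : c ∈ Q' := by
      have h := Finset.inf_le (f := id) (Finset.mem_erase.2 ⟨hne, hfinC.mem_toFinset.2 hQ'⟩) hcS
      exact h
    rcases Nat.eq_zero_or_pos n with rfl | hn
    · exfalso
      simp only [pow_zero, one_mul] at hy
      have hu : π c * π y = 1 := by simpa using hy
      have h0 : c * y - 1 ∈ Q' := hI Q' hQ' (Ideal.Quotient.eq.1 (by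
        show π _ = π _
        rw [map_mul, map_one]
        exact hu))
      exact hQ'.ne_top (Q'.eq_top_iff_one.2 (by simpa using Q'.sub_mem (Q'.mul_mem_right y hcQ') h0))
    · exact Q'.pow_mem_of_mem (Q'.mul_mem_right y hcQ') n hn

/-- Finite extensions of normal domains are étale around unramified primes. -/
theorem exists_etale_nhd_of_unramified (A B : Type u) [CommRing A] [IsDomain A] [IsNoetherianRing A]
    [IsIntegrallyClosed A] [CommRing B] [IsDomain B] [Algebra A B] [Module.Finite A B]
    (hinj : Function.Injective (algebraMap A B)) (q' : Ideal B) [q'.IsPrime] [Algebra.IsUnramifiedAt A q'] :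
    ∃ f : B, f ∉ q' ∧ Etale (Spec.map (CommRingCat.ofHom (algebraMap B (Localization.Away f))) ≫
      Spec.map (CommRingCat.ofHom (algebraMap A B))) := by
  let p' := q'.under A
  haveI : q'.LiesOver p' := ⟨rfl⟩
  letI := Localization.AtPrime.algebraOfLiesOver p' q'
  haveI : IsDomain (Localization.AtPrime p') :=
    IsLocalization.isDomain_localization (Ideal.primeCompl_le_nonZeroDivisors p')
  haveI : IsIntegrallyClosed (Localization.AtPrime p') :=
    isIntegrallyClosed_of_isLocalization _ p'.primeCompl (Ideal.primeCompl_le_nonZeroDivisors p')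
  haveI : IsLocalHom (algebraMap (Localization.AtPrime p') (Localization.AtPrime q')) :=
    Localization.isLocalHom_localRingHom _ _ _ (q'.over_def p')
  haveI : Algebra.FinitePresentation A B := Algebra.FinitePresentation.of_finiteType.1 inferInstance
  haveI : Algebra.EssFiniteType B (Localization.AtPrime q') := .of_isLocalization _ q'.primeCompl
  haveI : Algebra.EssFiniteType A (Localization.AtPrime q') := .comp _ B _
  haveI : Algebra.EssFiniteType (Localization.AtPrime p') (Localization.AtPrime q') := .of_comp A _ _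
  haveI : Algebra.FormallyUnramified (Localization.AtPrime p') (Localization.AtPrime q') :=
    Algebra.FormallyUnramified.of_restrictScalars A _ _
  have hinj' : Function.Injective (algebraMap (Localization.AtPrime p') (Localization.AtPrime q')) := by
    rw [injective_iff_map_eq_zero]
    intro x hx
    obtain ⟨a, s, rfl⟩ := IsLocalization.exists_mk'_eq p'.primeCompl x
    have h1 : algebraMap (Localization.AtPrime p') (Localization.AtPrime q')
        (algebraMap A (Localization.AtPrime p') a) = 0 := by
      rw [← IsLocalization.mk'_spec (Localization.AtPrime p') a s, map_mul, hx, zero_mul]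
    rw [← IsScalarTower.algebraMap_apply, IsScalarTower.algebraMap_apply A B,
      (IsLocalization.injective (Localization.AtPrime q') q'.primeCompl_le_nonZeroDivisors).eq_iff'
        (map_zero _), map_eq_zero_iff _ hinj] at h1
    rw [h1, IsLocalization.mk'_zero]
  haveI := GrothLib.EssEtLoc.flat_of_unramified_of_normal hinj'
  haveI := GrothLib.LocProp.isEtaleAt_of_isUnramifiedAt_of_flat (R := A) (S := B) p' q'
  obtain ⟨f, hf, hstd⟩ := Algebra.IsEtaleAt.exists_isStandardEtale (R := A) q'
  haveI := hstd
  refine ⟨f, hf, ?_⟩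
  haveI : Algebra.Etale A (Localization.Away f) := inferInstance
  rw [← Spec.map_comp, ← CommRingCat.ofHom_comp, ← IsScalarTower.algebraMap_eq,
    HasRingHomProperty.Spec_iff (P := @Etale)]
  exact RingHom.etale_algebraMap.2 inferInstance

/-- A finite local algebra of depth two, étale on the punctured spectrum, over a pure base is étale. -/
theorem etale_of_punctured (Ah E : Type u) [CommRing Ah] [IsLocalRing Ah] [IsNoetherianRing Ah]
    [CommRing E] [IsLocalRing E] [IsNoetherianRing E] [Algebra Ah E] [Module.Finite Ah E]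
    (hdAh : (2 : ℕ∞) ≤ LocCoh.depth Ah Ah) (hdE : (2 : ℕ∞) ≤ LocCoh.depth E E) (hpure : FEt.PurityHolds Ah)
    (hloc : ∀ z : Spec (CommRingCat.of E),
      z ∈ Spec.map (CommRingCat.ofHom (algebraMap Ah E)) ⁻¹ᵁ FEt.puncturedSpec Ah →
      ∃ O : (Spec (CommRingCat.of E)).Opens, z ∈ O ∧
        Etale (O.ι ≫ Spec.map (CommRingCat.ofHom (algebraMap Ah E)))) :
    Algebra.Etale Ah E := by
  let g : Spec (CommRingCat.of E) ⟶ Spec (CommRingCat.of Ah) := Spec.map (CommRingCat.ofHom (algebraMap Ah E))
  let U := FEt.puncturedSpec Ah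
  haveI : IsFinite g := by
    rw [IsFinite.SpecMap_iff]
    exact RingHom.finite_algebraMap.2 inferInstance
  haveI : (FEt.restrict U.ι).EssSurj := hpure
  let T := g ⁻¹ᵁ U
  haveI : Etale (g ∣_ U) := by
    haveI : Etale ((g ∣_ U) ≫ U.ι) := by
      rw [morphismRestrict_ι]
      choose O hzO hO using fun z : T => hloc z.1 z.2
      refine IsZariskiLocalAtSource.of_iSup_eq_top (P := @Etale) (fun z : T => T.ι ⁻¹ᵁ O z) ?_ fun z => ?_
      · refine eq_top_iff.2 fun w _ => TopologicalSpace.Opens.mem_iSup.2 ⟨w, hzO w⟩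
      · let k : (T.ι ⁻¹ᵁ O z : Scheme.{u}) ⟶ (O z : Scheme.{u}) := T.ι ∣_ O z
        have : (T.ι ⁻¹ᵁ O z).ι ≫ T.ι ≫ g = k ≫ (O z).ι ≫ g := by
          rw [morphismRestrict_ι_assoc]
        rw [this]
        haveI := hO z
        haveI : IsOpenImmersion k := inferInstance
        infer_instance
    exact Etale.of_comp (g ∣_ U) U.ι
  let V : FEt.Cat (U : Scheme.{u}) := MorphismProperty.Over.mk ⊤ (g ∣_ U) (GrothLib.FEt21.prop_of _)
  obtain ⟨-, hV⟩ := Groth.Agent.S0263.result Ah hdAh V ⟨_, ⟨(FEt.restrict U.ι).objObjPreimageIso V⟩⟩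
  have hEt : (algebraMap Ah E).Etale := by
    have hdT : GrothLib.Depth.DepthTwoOutside T :=
      GrothLib.FEt21.depthTwoOutside_preimage_puncturedSpec Ah E fun m hm => by
        obtain rfl := IsLocalRing.eq_maximalIdeal hm
        exact hdE.trans_eq (GrothLib.HartogsQC.depth_eq_of_ringEquiv
          (IsLocalization.atUnits E (maximalIdeal E).primeCompl (S := Localization.AtPrime (maximalIdeal E))
          (fun a ha => by by_contra h; exact ha ((mem_maximalIdeal a).2 h))).toRingEquiv)
    haveI hiso : IsIso T.ι.appTop := GrothLib.Depth.isIso_ι_appTop hdT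
    have h : (Scheme.ΓSpecIso (CommRingCat.of Ah)).inv ≫ (V.hom ≫ U.ι).appTop =
        CommRingCat.ofHom (algebraMap Ah E) ≫ (Scheme.ΓSpecIso (CommRingCat.of E)).inv ≫ T.ι.appTop := by
      show _ ≫ ((g ∣_ U) ≫ U.ι).appTop = _
      rw [morphismRestrict_ι, Scheme.Hom.comp_appTop, ← Category.assoc, ← Category.assoc,
        Scheme.ΓSpecIso_inv_naturality]
    have h2 : CommRingCat.ofHom (algebraMap Ah E) =
        ((Scheme.ΓSpecIso (CommRingCat.of Ah)).inv ≫ (V.hom ≫ U.ι).appTop) ≫
          (@asIso _ _ _ _ T.ι.appTop hiso).inv ≫ (Scheme.ΓSpecIso (CommRingCat.of E)).hom := by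
      rw [h]
      erw [Category.assoc, Category.assoc, (@asIso _ _ _ _ T.ι.appTop hiso).hom_inv_id_assoc, Iso.inv_hom_id,
        Category.comp_id]
    show (CommRingCat.ofHom (algebraMap Ah E)).hom.Etale
    rw [h2]
    exact RingHom.Etale.respectsIso.1 _
      (asIso ((@asIso _ _ _ _ T.ι.appTop hiso).inv ≫ (Scheme.ΓSpecIso (CommRingCat.of E)).hom)).commRingCatIsoToRingEquiv hV
  exact RingHom.etale_algebraMap.1 hEt

/-- Purity of the completion at the contracted prime kills an isolated ramification point. -/
theorem exists_etale_factor (A B Ah : Type u) [CommRing A] [IsDomain A] [IsNoetherianRing A]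
    [IsIntegrallyClosed A] [CommRing B] [IsDomain B] [Algebra A B] [Module.Finite A B]
    (hinj : Function.Injective (algebraMap A B)) (q : Ideal B) [q.IsPrime]
    [CommRing Ah] [IsLocalRing Ah] [IsNoetherianRing Ah] [Algebra A Ah] [Module.Flat A Ah]
    [HenselianRing Ah (maximalIdeal Ah)] (hPm : (q.under A).map (algebraMap A Ah) = maximalIdeal Ah)
    (resA : Ah →ₐ[A] q.ResidueField)
    (hdAh : (2 : ℕ∞) ≤ LocCoh.depth Ah Ah)
    (hdBq : (2 : ℕ∞) ≤ LocCoh.depth (Localization.AtPrime q) (Localization.AtPrime q))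
    (hpunct : ∀ (q' : Ideal B) [q'.IsPrime], q' < q → Algebra.IsUnramifiedAt A q')
    (hpure : FEt.PurityHolds Ah) :
    ∃ (E : Type u) (_ : CommRing E) (_ : IsLocalRing E) (_ : Algebra Ah E) (_ : Algebra A E)
      (_ : Algebra (Localization.AtPrime q) E),
      IsScalarTower A Ah E ∧ IsScalarTower A (Localization.AtPrime q) E ∧ Algebra.Etale Ah E ∧
      Module.Finite Ah E ∧ IsLocalHom (algebraMap (Localization.AtPrime q) E) ∧
      Module.Flat (Localization.AtPrime q) E ∧ IsLocalHom (algebraMap Ah E) := by
  let P := q.under A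
  let kq := q.ResidueField
  let Bq := Localization.AtPrime q
  haveI : IsNoetherianRing B := IsNoetherianRing.of_finite A B
  haveI : IsNoetherianRing Bq := IsLocalization.isNoetherianRing q.primeCompl Bq inferInstance
  let B' := Ah ⊗[A] B
  let φ : B' →ₐ[A] kq := Algebra.TensorProduct.lift resA (IsScalarTower.toAlgHom A B kq) fun _ _ => Commute.all _ _
  let q'' : Ideal B' := RingHom.ker φ
  haveI : q''.IsPrime := RingHom.ker_isPrime _
  let ι₂ : B →+* B' := (Algebra.TensorProduct.includeRight : B →ₐ[A] B').toRingHom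
  have hι₂ : ∀ b : B, φ (ι₂ b) = algebraMap B kq b := fun b => by
    show φ (1 ⊗ₜ b) = _
    rw [Algebra.TensorProduct.lift_tmul, map_one, one_mul]
    rfl
  have hq'' : q''.comap ι₂ = q := Ideal.ext fun b => by
    rw [Ideal.mem_comap, RingHom.mem_ker, hι₂]
    exact Ideal.algebraMap_residueField_eq_zero
  have hcomm : ∀ a : A, ι₂ (algebraMap A B a) = algebraMap Ah B' (algebraMap A Ah a) := fun a => by
    show (Algebra.TensorProduct.includeRight : B →ₐ[A] B') (algebraMap A B a) = _
    rw [AlgHom.commutes, IsScalarTower.algebraMap_apply A Ah B']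
  have hover : ∀ Q : Ideal B', P ≤ (Q.comap ι₂).comap (algebraMap A B) → maximalIdeal Ah ≤ Q.comap (algebraMap Ah B') := by
    intro Q hQ
    rw [← hPm, Ideal.map_le_iff_le_comap]
    intro a ha
    show algebraMap Ah B' (algebraMap A Ah a) ∈ Q
    rw [← hcomm]
    exact hQ ha
  haveI : Module.Finite Ah B' := Module.Finite.base_change A Ah B
  haveI : IsNoetherianRing B' := IsNoetherianRing.of_finite Ah B'
  haveI hq''max : q''.IsMaximal := by
    refine Ideal.isMaximal_of_isIntegral_of_isMaximal_comap (R := Ah) q'' ?_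
    rw [← (maximalIdeal.isMaximal Ah).eq_of_le (Ideal.IsPrime.ne_top (Ideal.IsPrime.comap _))
      (hover q'' (by rw [hq'']))]
    infer_instance
  have hflatι : ι₂.Flat := by
    let c : B ⊗[A] Ah →+* B' := (Algebra.TensorProduct.comm A B Ah).toRingEquiv.toRingHom
    have hc : c.Flat := RingHom.Flat.of_bijective (Algebra.TensorProduct.comm A B Ah).bijective
    have h : ι₂ = c.comp (algebraMap B (B ⊗[A] Ah)) := RingHom.ext fun r => by simp [c, ι₂]
    rw [h]
    exact RingHom.Flat.comp (RingHom.flat_algebraMap_iff.2 inferInstance) hc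
  obtain ⟨e, he, heq, heQ⟩ := exists_local_idempotent Ah B' q''
  let E := B' ⧸ Ideal.span {1 - e}
  let π : B' →+* E := Ideal.Quotient.mk _
  haveI : IsLocalization.Away e E :=
    IsLocalization.away_of_isIdempotentElem he Ideal.mk_ker Ideal.Quotient.mk_surjective
  have hEmax : ∀ M : Ideal E, M.IsMaximal → M.comap π = q'' := fun M hM => by
    haveI := hM
    haveI : (M.comap π).IsMaximal := Ideal.comap_isMaximal_of_surjective π Ideal.Quotient.mk_surjective
    by_contra hne
    refine (Ideal.IsMaximal.ne_top ‹(M.comap π).IsMaximal›) ((Ideal.eq_top_iff_one _).2 ?_)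
    have h1 : (1 - e) ∈ M.comap π := by
      show π (1 - e) ∈ M
      rw [show π (1 - e) = 0 from Ideal.Quotient.eq_zero_iff_mem.2 (Ideal.mem_span_singleton_self _)]
      exact M.zero_mem
    simpa using add_mem h1 (heQ _ inferInstance hne)
  haveI : Nontrivial E := Ideal.Quotient.nontrivial_iff.2 fun h => by
    have h1 : Ideal.span {1 - e} ≤ q'' := (Ideal.span_singleton_le_iff_mem _).2
      ((((inferInstance : q''.IsPrime).mem_or_mem (x := 1 - e) (y := e)
        (by rw [sub_mul, one_mul, he.eq, sub_self]; exact q''.zero_mem))).resolve_right heq)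
    exact hq''max.ne_top (top_le_iff.1 (h ▸ h1))
  haveI : IsLocalRing E := IsLocalRing.of_unique_max_ideal (by
    obtain ⟨M, hM⟩ := Ideal.exists_maximal E
    refine ⟨M, hM, fun N hN => ?_⟩
    exact Ideal.comap_injective_of_surjective π Ideal.Quotient.mk_surjective ((hEmax N hN).trans (hEmax M hM).symm))
  let ρ : B →+* E := π.comp ι₂
  have hρmax : (maximalIdeal E).comap ρ = q := by
    show ((maximalIdeal E).comap π).comap ι₂ = q
    rw [hEmax _ inferInstance, hq'']
  letI : Algebra B E := ρ.toAlgebra
  haveI : Module.Flat B E := by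
    have : π.Flat := by
      haveI : Module.Flat B' E := IsLocalization.flat E (Submonoid.powers e)
      exact RingHom.flat_algebraMap_iff.2 this
    exact RingHom.Flat.comp hflatι this
  have hunit : ∀ b : q.primeCompl, IsUnit (algebraMap B E b) := fun b => by
    by_contra h
    exact b.2 (hρmax.le ((mem_maximalIdeal _).2 h))
  letI : Algebra Bq E := (IsLocalization.lift (M := q.primeCompl) (S := Bq) hunit).toAlgebra
  haveI : IsScalarTower B Bq E := IsScalarTower.of_algebraMap_eq fun b => (IsLocalization.lift_eq hunit b).symm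
  haveI : Module.Flat Bq E := (Module.flat_iff_of_isLocalization Bq q.primeCompl E).2 inferInstance
  haveI : IsLocalHom (algebraMap Bq E) := ⟨fun x hx => by
    obtain ⟨⟨b, s⟩, rfl⟩ := IsLocalization.mk'_surjective q.primeCompl x
    rw [IsLocalization.AtPrime.isUnit_mk'_iff Bq q b s]
    intro hb
    refine (mem_maximalIdeal (algebraMap B E b)).1 (hρmax.ge hb) ?_
    rw [show algebraMap B E b = algebraMap Bq E (algebraMap B Bq b) from IsScalarTower.algebraMap_apply B Bq E b,
      ← IsLocalization.mk'_spec Bq b s, map_mul]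
    exact hx.mul ((IsLocalization.map_units Bq s).map _)⟩
  haveI : IsNoetherianRing E := inferInstance
  have hdE : (2 : ℕ∞) ≤ LocCoh.depth E E := hdBq.trans (GrothLib.FlatExt.depth_le_of_flat_local Bq E)
  haveI : Module.Finite Ah E := Module.Finite.of_surjective (Ideal.Quotient.mkₐ Ah _).toLinearMap
    Ideal.Quotient.mk_surjective
  have hEt : Algebra.Etale Ah E := by
    refine etale_of_punctured Ah E hdAh hdE hpure ?_
    let g : Spec (CommRingCat.of E) ⟶ Spec (CommRingCat.of Ah) := Spec.map (CommRingCat.ofHom (algebraMap Ah E))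
    let U := FEt.puncturedSpec Ah
    intro z hz
    let Q : PrimeSpectrum E := z
    let q' := Q.asIdeal.comap ρ
    haveI : q'.IsPrime := Ideal.IsPrime.comap ρ
    have hle : q' ≤ q := (Ideal.comap_mono (le_maximalIdeal Q.isPrime.ne_top)).trans hρmax.le
    have hlt : q' < q := lt_of_le_of_ne hle fun h => by
      refine hz (PrimeSpectrum.ext ?_)
      show Q.asIdeal.comap (algebraMap Ah E) = maximalIdeal Ah
      refine ((maximalIdeal.isMaximal Ah).eq_of_le (Ideal.IsPrime.comap (algebraMap Ah E)).ne_top ?_).symm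
      exact hover (Q.asIdeal.comap π) (le_of_eq (by
        show q.comap (algebraMap A B) = q'.comap (algebraMap A B)
        rw [h]))
    haveI := hpunct q' hlt
    obtain ⟨f, hf, hfet⟩ := exists_etale_nhd_of_unramified A B hinj q'
    let a₁ : Spec (CommRingCat.of B') ⟶ Spec (CommRingCat.of Ah) :=
      Spec.map (CommRingCat.ofHom (algebraMap Ah B'))
    let a₂ : Spec (CommRingCat.of B') ⟶ Spec (CommRingCat.of B) := Spec.map (CommRingCat.ofHom ι₂)
    let j : Spec (CommRingCat.of (Localization.Away f)) ⟶ Spec (CommRingCat.of B) :=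
      Spec.map (CommRingCat.ofHom (algebraMap B (Localization.Away f)))
    haveI : IsOpenImmersion j := IsOpenImmersion.of_isLocalization f
    let gB : Spec (CommRingCat.of B) ⟶ Spec (CommRingCat.of A) := Spec.map (CommRingCat.ofHom (algebraMap A B))
    haveI : Etale (j ≫ gB) := hfet
    have sq : IsPullback a₂ a₁ gB (Spec.map (CommRingCat.ofHom (algebraMap A Ah))) :=
      (isPullback_SpecMap_of_isPushout _ _ _ _ (CommRingCat.isPushout_tensorProduct A Ah B).flip)
    have het : Etale (pullback.snd j a₂ ≫ a₁) :=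
      MorphismProperty.of_isPullback (P := @Etale) ((IsPullback.of_hasPullback j a₂).paste_vert sq) ‹_›
    let c : Spec (CommRingCat.of E) ⟶ Spec (CommRingCat.of B') := Spec.map (CommRingCat.ofHom π)
    haveI : IsOpenImmersion c := IsOpenImmersion.of_isLocalization (S := E) e
    have hc : c ≫ a₁ = g := by
      show Spec.map _ ≫ Spec.map _ = Spec.map _
      rw [← Spec.map_comp, ← CommRingCat.ofHom_comp]

    let O := c ⁻¹ᵁ (pullback.snd j a₂).opensRange
    refine ⟨O, ?_, ?_⟩
    · show c z ∈ Set.range (pullback.snd j a₂)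
      rw [Scheme.Pullback.range_snd]
      refine ⟨⟨Ideal.map (algebraMap B (Localization.Away f)) q', ?_⟩, PrimeSpectrum.ext ?_⟩
      · exact IsLocalization.isPrime_of_isPrime_disjoint (Submonoid.powers f) _ q' inferInstance
          ((Ideal.disjoint_powers_iff_notMem_of_isPrime f).2 hf)
      · exact IsLocalization.comap_map_of_isPrime_disjoint (Submonoid.powers f) _ inferInstance
          ((Ideal.disjoint_powers_iff_notMem_of_isPrime f).2 hf)
    · let l : (O : Scheme.{u}) ⟶ pullback j a₂ := IsOpenImmersion.lift (pullback.snd j a₂) (O.ι ≫ c) (by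
        rintro _ ⟨w, rfl⟩
        exact w.2)
      have hl : l ≫ pullback.snd j a₂ = O.ι ≫ c := IsOpenImmersion.lift_fac _ _ _
      haveI : IsOpenImmersion l := by
        haveI : IsOpenImmersion (l ≫ pullback.snd j a₂) := by rw [hl]; infer_instance
        exact IsOpenImmersion.of_comp l (pullback.snd j a₂)
      haveI := het
      show Etale (O.ι ≫ g)
      rw [← hc, ← Category.assoc, ← hl, Category.assoc]
      infer_instance
  haveI : IsLocalHom (algebraMap Ah E) := by
    refine ⟨fun a ha => ?_⟩
    by_contra hna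
    have h1 : algebraMap Ah B' a ∈ q'' := hover q'' (by rw [hq'']) ((mem_maximalIdeal a).2 hna)
    rw [← hEmax (maximalIdeal E) inferInstance] at h1
    exact (mem_maximalIdeal _).1 h1 ha
  exact ⟨E, inferInstance, inferInstance, inferInstance, inferInstance, inferInstance,
    inferInstance, IsScalarTower.of_algebraMap_eq (fun a => by
      show π (algebraMap A B' a) = algebraMap Bq E (algebraMap A Bq a)
      rw [IsScalarTower.algebraMap_apply A B Bq, ← IsScalarTower.algebraMap_apply B Bq E]
      show _ = π (ι₂ (algebraMap A B a))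
      rw [hcomm, IsScalarTower.algebraMap_apply A Ah B']),
    hEt, inferInstance, inferInstance, inferInstance, inferInstance⟩

/-- Purity of a flat henselian model of `A_P` kills an isolated ramification point over `P`. -/
theorem isUnramifiedAt_of_purity (A B Ah : Type u) [CommRing A] [IsDomain A] [IsNoetherianRing A]
    [IsIntegrallyClosed A] [CommRing B] [IsDomain B] [Algebra A B] [Module.Finite A B]
    (hinj : Function.Injective (algebraMap A B)) (q : Ideal B) [q.IsPrime]
    [CommRing Ah] [IsLocalRing Ah] [IsNoetherianRing Ah] [Algebra A Ah] [Module.Flat A Ah]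
    [Algebra (Localization.AtPrime (q.under A)) Ah] [IsScalarTower A (Localization.AtPrime (q.under A)) Ah]
    [IsLocalHom (algebraMap (Localization.AtPrime (q.under A)) Ah)]
    [HenselianRing Ah (maximalIdeal Ah)] (hPm : (q.under A).map (algebraMap A Ah) = maximalIdeal Ah)
    (hres : Function.Surjective (ResidueField.map (algebraMap (Localization.AtPrime (q.under A)) Ah)))
    (resA : Ah →ₐ[A] q.ResidueField)
    (hdAh : (2 : ℕ∞) ≤ LocCoh.depth Ah Ah)
    (hdBq : (2 : ℕ∞) ≤ LocCoh.depth (Localization.AtPrime q) (Localization.AtPrime q))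
    (hpunct : ∀ (q' : Ideal B) [q'.IsPrime], q' < q → Algebra.IsUnramifiedAt A q')
    (hpure : FEt.PurityHolds Ah) : Algebra.IsUnramifiedAt A q := by
  obtain ⟨E, _, _, _, _, _, hAE, hBE, hEt, hfin, hlBq, hflat, hlAh⟩ :=
    exists_etale_factor A B Ah hinj q hPm resA hdAh hdBq hpunct hpure
  haveI := hAE
  haveI := hBE
  haveI := hEt
  haveI := hfin
  haveI := hlBq
  haveI := hflat
  haveI := hlAh
  let P := q.under A
  let AP := Localization.AtPrime P
  let Bq := Localization.AtPrime q
  haveI : q.LiesOver P := ⟨rfl⟩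
  letI := Localization.AtPrime.algebraOfLiesOver P q
  haveI := Module.FaithfullyFlat.of_flat_of_isLocalHom (A := Bq) (B := E)
  haveI : Algebra.EssFiniteType A B := inferInstance
  rw [Algebra.isUnramifiedAt_iff_map_eq A P q]
  constructor
  · haveI : IsLocalHom (algebraMap AP Bq) := Localization.isLocalHom_localRingHom _ _ _ (q.over_def P)
    let f₁ : AP →+* E := (algebraMap Ah E).comp (algebraMap AP Ah)
    let f₂ : AP →+* E := (algebraMap Bq E).comp (algebraMap AP Bq)
    have hf : f₁ = f₂ := IsLocalization.ringHom_ext P.primeCompl (RingHom.ext fun a => by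
      show algebraMap Ah E (algebraMap AP Ah (algebraMap A AP a)) =
        algebraMap Bq E (algebraMap AP Bq (algebraMap A AP a))
      rw [← IsScalarTower.algebraMap_apply A AP Ah, ← IsScalarTower.algebraMap_apply A AP Bq,
        ← IsScalarTower.algebraMap_apply A Ah E, ← IsScalarTower.algebraMap_apply A Bq E])
    letI : Algebra P.ResidueField (ResidueField E) :=
      ((ResidueField.map (algebraMap Ah E)).comp (ResidueField.map (algebraMap AP Ah))).toAlgebra
    letI : Algebra q.ResidueField (ResidueField E) := (ResidueField.map (algebraMap Bq E)).toAlgebra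
    haveI : IsScalarTower P.ResidueField q.ResidueField (ResidueField E) :=
      IsScalarTower.of_algebraMap_eq fun x => by
        obtain ⟨a, rfl⟩ := residue_surjective x
        show residue E (f₁ a) = residue E (f₂ a)
        rw [hf]
    haveI : Algebra.IsSeparable P.ResidueField (ResidueField E) :=
      Algebra.IsSeparable.of_equiv_equiv
        (RingEquiv.ofBijective _ ⟨(ResidueField.map (algebraMap AP Ah)).injective, hres⟩).symm
        (RingEquiv.refl (ResidueField E)) (RingHom.ext fun y => by
          obtain ⟨x, rfl⟩ := hres y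
          show algebraMap P.ResidueField (ResidueField E) ((RingEquiv.ofBijective _ _).symm _) = _
          erw [RingEquiv.symm_apply_apply (RingEquiv.ofBijective (ResidueField.map (algebraMap AP Ah))
            ⟨(ResidueField.map (algebraMap AP Ah)).injective, hres⟩) x]
          rfl)
    exact Algebra.isSeparable_tower_bot_of_isSeparable P.ResidueField q.ResidueField (ResidueField E)
  · have h1 : (P.map (algebraMap A Bq)).map (algebraMap Bq E) = maximalIdeal E := by
      rw [Ideal.map_map, ← IsScalarTower.algebraMap_eq, IsScalarTower.algebraMap_eq A Ah E, ← Ideal.map_map,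
        hPm]
      exact Algebra.FormallyUnramified.map_maximalIdeal
    refine (IsLocalRing.eq_maximalIdeal ?_)
    rw [← Ideal.comap_map_eq_self_of_faithfullyFlat (B := E) (P.map (algebraMap A Bq)), h1,
      IsLocalRing.maximalIdeal_comap]
    infer_instance

end GrothLib.SmDepth21
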