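import Mathlib

/-!
# Finiteness of sections over a cover of depth two
-/

set_option autoImplicit false
set_option linter.style.haveILetI false

universe u v w

open RingTheory.Sequence

namespace GrothLib.SmDepth21

/-- A module which is finite projective on the members of a cover and has no sections supported off
it is finite, over a ring of depth two along the complement. -/
theorem finite_of_projective_cover {B : Type u} [CommRing B] [IsNoetherianRing B] {R : Type u} [AddCommGroup R]
    [Module B R] {ι : Type w} [Fintype ι] (a : ι → B) (Bi : ι → Type u) [∀ i, CommRing (Bi i)]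
    [∀ i, Algebra B (Bi i)] [∀ i, IsLocalization.Away (a i) (Bi i)] (Ri : ι → Type u) [∀ i, AddCommGroup (Ri i)]
    [∀ i, Module B (Ri i)] [∀ i, Module (Bi i) (Ri i)] [∀ i, IsScalarTower B (Bi i) (Ri i)]
    [∀ i, Module.Finite (Bi i) (Ri i)] [∀ i, Module.Projective (Bi i) (Ri i)]
    (l : ∀ i, R →ₗ[B] Ri i) [∀ i, IsLocalizedModule (Submonoid.powers (a i)) (l i)]
    (hinj : ∀ r : R, (∀ i, l i r = 0) → r = 0)
    {x y : B} (hxy : IsWeaklyRegular B [x, y]) (hx : x ∈ (Ideal.span (Set.range a)).radical)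
    (hy : y ∈ (Ideal.span (Set.range a)).radical) :
    Module.Finite B R ∧ ∀ r : R, x • r = 0 → r = 0 := by
  classical
  have hxB : IsSMulRegular B x := ((isWeaklyRegular_cons_iff _ _ _).1 hxy).1
  have hyB : IsSMulRegular (QuotSMulTop x B) y :=
    ((isWeaklyRegular_cons_iff _ _ _).1 ((isWeaklyRegular_cons_iff _ _ _).1 hxy).2).1
  have hloc : ∀ i, IsSMulRegular (Bi i) (algebraMap B (Bi i) x) := fun i =>
    IsSMulRegular.of_isLocalizedModule (Bi i) (Submonoid.powers (a i)) (Algebra.linearMap B (Bi i)) hxB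
  have hxR : ∀ r : R, x • r = 0 → r = 0 := fun r hr => hinj r fun i => by
    obtain ⟨n, f, g, hfg⟩ : ∃ n, ∃ f : Ri i →ₗ[Bi i] (Fin n → Bi i), ∃ g : (Fin n → Bi i) →ₗ[Bi i] Ri i,
        g.comp f = LinearMap.id := by
      obtain ⟨n, g, hg⟩ := Module.Finite.exists_fin' (Bi i) (Ri i)
      obtain ⟨f, hf⟩ := Module.projective_lifting_property g LinearMap.id hg
      exact ⟨n, f, g, hf⟩
    have h1 : algebraMap B (Bi i) x • f (l i r) = 0 := by
      rw [← map_smul, algebraMap_smul, ← map_smul, hr, map_zero, map_zero]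
    have h2 : f (l i r) = 0 := funext fun k => hloc i (by
      simpa [Pi.smul_apply] using congrFun h1 k)
    have h3 := congrArg g h2
    rwa [← LinearMap.comp_apply, hfg, map_zero] at h3
  refine ⟨?_, hxR⟩
  -- a finite submodule with the same localisations
  have hgen : ∀ i, ∃ s : Finset R, ∀ r : R, ∃ n : ℕ, a i ^ n • r ∈ Submodule.span B (s : Set R) := by
    intro i
    obtain ⟨t, ht⟩ := (inferInstance : Module.Finite (Bi i) (Ri i))
    choose pre hpre using fun z : Ri i => IsLocalizedModule.surj (Submonoid.powers (a i)) (l i) z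
    refine ⟨t.image fun z => (pre z).1, fun r => ?_⟩
    let M := Submodule.span B ((t.image fun z => (pre z).1 : Finset R) : Set R)
    have hz : ∀ z : Ri i, ∃ n : ℕ, ∃ m ∈ M, a i ^ n • z = l i m := by
      intro z
      have hz : z ∈ Submodule.span (Bi i) (t : Set (Ri i)) := ht ▸ Submodule.mem_top
      induction hz using Submodule.span_induction with
      | mem z hz =>
        obtain ⟨n, hn⟩ := (pre z).2.2
        refine ⟨n, (pre z).1, Submodule.subset_span (Finset.mem_image_of_mem _ hz), ?_⟩
        rw [show a i ^ n = ((pre z).2 : B) from hn]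
        exact hpre z
      | zero => exact ⟨0, 0, M.zero_mem, by simp⟩
      | add z w _ _ hz hw =>
        obtain ⟨n, m, hm, h⟩ := hz
        obtain ⟨n', m', hm', h'⟩ := hw
        refine ⟨n + n', a i ^ n' • m + a i ^ n • m', M.add_mem (M.smul_mem _ hm) (M.smul_mem _ hm'), ?_⟩
        rw [map_add, map_smul, map_smul, ← h, ← h', smul_add, smul_smul, smul_smul, ← pow_add, ← pow_add,
          add_comm n' n]
      | smul c z _ hz =>
        obtain ⟨n, m, hm, h⟩ := hz
        obtain ⟨⟨b, ⟨_, k, rfl⟩⟩, hb⟩ := IsLocalization.surj (Submonoid.powers (a i)) c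
        refine ⟨n + k, b • m, M.smul_mem _ hm, ?_⟩
        rw [map_smul, ← h, ← algebraMap_smul (Bi i) (a i ^ (n + k)), ← algebraMap_smul (Bi i) (a i ^ n),
          ← algebraMap_smul (Bi i) b, smul_smul, smul_smul, ← hb, pow_add, map_mul]
        ring_nf
    obtain ⟨n, m, hm, h⟩ := hz (l i r)
    rw [← map_smul] at h
    obtain ⟨⟨_, k, rfl⟩, hk⟩ := IsLocalizedModule.exists_of_eq (S := Submonoid.powers (a i)) h
    refine ⟨k + n, ?_⟩
    rw [pow_add, mul_smul]
    change a i ^ k • a i ^ n • r = a i ^ k • m at hk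
    exact hk ▸ M.smul_mem _ hm
  choose s hs using hgen
  let M := Submodule.span B (⋃ i, (s i : Set R))
  haveI : Module.Finite B M :=
    Module.Finite.iff_fg.2 (Submodule.fg_span (Set.finite_iUnion fun i => (s i).finite_toSet))
  have hM : ∀ r : R, ∀ b ∈ (Ideal.span (Set.range a)).radical, ∃ n : ℕ, b ^ n • r ∈ M := by
    intro r b hb
    let I : Ideal B := M.colon {r}
    have hI : Set.range a ⊆ I.radical := by
      rintro _ ⟨i, rfl⟩
      obtain ⟨n, hn⟩ := hs i r
      exact ⟨n, Submodule.mem_colon_singleton.2 (Submodule.span_mono (Set.subset_iUnion (fun i => (s i : Set R)) i) hn)⟩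
    obtain ⟨n, hn⟩ := Ideal.radical_le_radical_iff.2 (Ideal.span_le.2 hI) hb
    exact ⟨n, Submodule.mem_colon_singleton.1 hn⟩
  -- functionals
  haveI : Module.Finite B (M →ₗ[B] B) := inferInstance
  obtain ⟨N, φ, hφ⟩ : ∃ N : ℕ, ∃ φ : Fin N → (M →ₗ[B] B), Submodule.span B (Set.range φ) = ⊤ :=
    Module.Finite.exists_fin
  let Φ : M →ₗ[B] (Fin N → B) := LinearMap.pi φ
  have hΦ : ∀ m : M, Φ m = 0 → m = 0 := by
    intro m hm
    refine Subtype.ext (hinj _ fun i => ?_)
    have hall : ∀ ψ : M →ₗ[B] B, ψ m = 0 := fun ψ => by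
      have hψ : ψ ∈ Submodule.span B (Set.range φ) := hφ ▸ Submodule.mem_top
      induction hψ using Submodule.span_induction with
      | mem ψ hψ => obtain ⟨j, rfl⟩ := hψ; exact congrFun hm j
      | zero => rfl
      | add _ _ _ _ h h' => rw [LinearMap.add_apply, h, h', add_zero]
      | smul c _ _ h => rw [LinearMap.smul_apply, h, smul_zero]
    haveI : Module.FinitePresentation B M := Module.finitePresentation_of_finite B M
    by_contra hne
    obtain ⟨θ, hθ⟩ := Module.Projective.exists_dual_ne_zero (Bi i) hne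
    let g : M →ₗ[B] Bi i := (θ.restrictScalars B).comp ((l i).comp M.subtype)
    obtain ⟨h, c, hc⟩ := Module.FinitePresentation.exists_lift_of_isLocalizedModule (Submonoid.powers (a i))
      (Algebra.linearMap B (Bi i)) g
    have h1 := LinearMap.congr_fun hc m
    rw [LinearMap.comp_apply, hall h, map_zero, LinearMap.smul_apply, Submonoid.smul_def] at h1
    refine hθ ?_
    have h2 : algebraMap B (Bi i) c * θ (l i m) = 0 := by
      rw [← Algebra.smul_def]
      exact h1.symm
    exact (IsLocalization.map_units (Bi i) c).mul_right_eq_zero.1 h2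
  -- extension of the functionals
  have hreg : ∀ n : ℕ, IsSMulRegular B (x ^ n) := fun n => hxB.pow n
  have hdiv : ∀ (n : ℕ) (k : ℕ) (b c : B), y ^ k * b = x ^ n * c → ∃ d, b = x ^ n * d := by
    have h1 : ∀ (k : ℕ) (b c : B), y ^ k * b = x * c → ∃ d, b = x * d := by
      intro k
      induction k with
      | zero => intro b c h; exact ⟨c, by simpa using h⟩
      | succ k ih =>
        intro b c h
        refine (ih b ?_ ?_)
        · exact Classical.choose (show ∃ d, y ^ k * b = x * d from by
            have h0 : y • (Submodule.Quotient.mk (y ^ k * b) : QuotSMulTop x B) = y • 0 := by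
              rw [smul_zero, ← Submodule.Quotient.mk_smul, Submodule.Quotient.mk_eq_zero,
                Submodule.mem_smul_pointwise_iff_exists]
              exact ⟨c, trivial, by rw [smul_eq_mul, smul_eq_mul, ← h]; ring⟩
            obtain ⟨d, -, hd⟩ := (Submodule.mem_smul_pointwise_iff_exists _ _ _).1
              ((Submodule.Quotient.mk_eq_zero _).1 (hyB h0))
            exact ⟨d, hd.symm⟩)
        · exact Classical.choose_spec (_ : ∃ d, y ^ k * b = x * d)
    intro n
    induction n with
    | zero => intro k b c h; exact ⟨b, by simp⟩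
    | succ n ih =>
      intro k b c h
      obtain ⟨d, rfl⟩ := h1 k b (x ^ n * c) (by rw [h]; ring)
      obtain ⟨e, rfl⟩ := ih k d c (hxB (show x * (y ^ k * d) = x * (x ^ n * c) by linear_combination h))
      exact ⟨e, by ring⟩
  have hex : ∀ (r : R) (j : Fin N), ∃ d : B, ∀ (n : ℕ) (h : x ^ n • r ∈ M), φ j ⟨_, h⟩ = x ^ n * d := by
    intro r j
    obtain ⟨n, hn⟩ := hM r x hx
    obtain ⟨k, hk⟩ := hM r y hy
    have hcomm : y ^ k * φ j ⟨_, hn⟩ = x ^ n * φ j ⟨_, hk⟩ := by
      rw [← smul_eq_mul (y ^ k), ← smul_eq_mul (x ^ n), ← map_smul, ← map_smul]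
      congr 1
      exact Subtype.ext (smul_comm _ _ _)
    obtain ⟨d, hd⟩ := hdiv n k _ _ hcomm
    refine ⟨d, fun n' h => hreg n ?_⟩
    show x ^ n • φ j ⟨_, h⟩ = x ^ n • (x ^ n' * d)
    rw [← map_smul]
    calc φ j (x ^ n • ⟨_, h⟩) = φ j (x ^ n' • ⟨_, hn⟩) := congrArg (φ j) (Subtype.ext (smul_comm _ _ _))
      _ = x ^ n' * (x ^ n * d) := by rw [map_smul, hd, smul_eq_mul]
      _ = _ := by rw [smul_eq_mul]; ring
  choose D hD using hex
  have huniq : ∀ (r : R) (j : Fin N) (n : ℕ) (h : x ^ n • r ∈ M) (e : B), φ j ⟨_, h⟩ = x ^ n * e → D r j = e :=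
    fun r j n h e he => hreg n (by simpa [smul_eq_mul] using (hD r j n h).symm.trans he)
  let Ψ : R →ₗ[B] (Fin N → B) :=
    { toFun := D
      map_add' := fun r r' => funext fun j => by
        obtain ⟨n, hn⟩ := hM r x hx
        obtain ⟨k, hk⟩ := hM r' x hx
        have h1 : x ^ (n + k) • r ∈ M := by rw [pow_add, mul_comm, mul_smul]; exact M.smul_mem _ hn
        have h2 : x ^ (n + k) • r' ∈ M := by rw [pow_add, mul_smul]; exact M.smul_mem _ hk
        refine huniq _ j (n + k) (by rw [smul_add]; exact M.add_mem h1 h2) _ ?_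
        show φ j ⟨_, _⟩ = x ^ (n + k) * (D r j + D r' j)
        rw [mul_add, ← hD r j _ h1, ← hD r' j _ h2, ← map_add]
        exact congrArg (φ j) (Subtype.ext (smul_add _ _ _))
      map_smul' := fun c r => funext fun j => by
        obtain ⟨n, hn⟩ := hM r x hx
        refine huniq _ j n (by rw [smul_comm]; exact M.smul_mem _ hn) _ ?_
        show φ j ⟨_, _⟩ = x ^ n * (c * D r j)
        rw [mul_left_comm, ← hD r j _ hn, ← smul_eq_mul c, ← map_smul]
        exact congrArg (φ j) (Subtype.ext (smul_comm _ _ _)) }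
  refine Module.Finite.of_injective Ψ ((injective_iff_map_eq_zero Ψ).2 fun r hr => ?_)
  obtain ⟨n, hn⟩ := hM r x hx
  have h0 : x ^ n • r = 0 := congrArg Subtype.val (hΦ ⟨_, hn⟩ (funext fun j => by
    show φ j ⟨_, hn⟩ = 0
    rw [hD r j n hn, show D r j = 0 from congrFun hr j, mul_zero]))
  clear hn
  induction n with
  | zero => simpa using h0
  | succ n ih => rw [pow_succ', mul_smul] at h0; exact ih (hxR _ h0)

end GrothLib.SmDepth21
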